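import Mathlib.RingTheory.PicardGroup
import Mathlib.RingTheory.Polynomial.Content
import Mathlib.RingTheory.Valuation.ValuationRing
import Mathlib.RingTheory.PrincipalIdealDomain
import Mathlib.Algebra.MvPolynomial.NoZeroDivisors
import Mathlib.Algebra.MvPolynomial.Equiv
import Mathlib.Data.Finsupp.Interval
import Mathlib.RingTheory.TensorProduct.Basic

/-!
# Picard group of a polynomial ring over a product of GCD domains
-/

set_option autoImplicit false
set_option linter.style.haveILetI false
universe u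

open TensorProduct MvPolynomial

namespace Groth.Agent.TateLoc6

theorem isGCDMonoid_of_mulEquiv {A B : Type*} [CommMonoidWithZero A] [CommMonoidWithZero B]
    [IsGCDMonoid A] [IsCancelMulZero B] (e : A ≃* B) : IsGCDMonoid B := by
  classical
  obtain ⟨i⟩ := ‹IsGCDMonoid A›
  refine ⟨gcdMonoidOfGCD (fun x y => e (gcd (e.symm x) (e.symm y))) (fun x y => ?_) (fun x y => ?_)
    (fun {x y z} hy hz => ?_)⟩
  · simpa using map_dvd e (gcd_dvd_left (e.symm x) (e.symm y))
  · simpa using map_dvd e (gcd_dvd_right (e.symm x) (e.symm y))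
  · simpa using map_dvd e (dvd_gcd (map_dvd e.symm hy) (map_dvd e.symm hz))

theorem isGCDMonoid_mvPolynomial (R : Type u) [CommRing R] [IsDomain R] [IsGCDMonoid R] :
    ∀ n : ℕ, IsGCDMonoid (MvPolynomial (Fin n) R)
  | 0 => isGCDMonoid_of_mulEquiv (isEmptyRingEquiv R (Fin 0)).toMulEquiv.symm
  | n + 1 => by
    haveI := isGCDMonoid_mvPolynomial R n
    obtain ⟨i⟩ := (inferInstance : Nonempty (NormalizedGCDMonoid (MvPolynomial (Fin n) R)))
    letI := i
    exact isGCDMonoid_of_mulEquiv (finSuccEquiv R n).toMulEquiv.symm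

theorem free_of_invertible {ι : Type u} (R : ι → Type u) [∀ i, CommRing (R i)] [∀ i, IsDomain (R i)]
    [∀ i, IsGCDMonoid (R i)] (n : ℕ) (M : Type u) [AddCommGroup M]
    [Module (MvPolynomial (Fin n) (∀ i, R i)) M] [Module.Invertible (MvPolynomial (Fin n) (∀ i, R i)) M] :
    Module.Free (MvPolynomial (Fin n) (∀ i, R i)) M := by
  classical
  let B := MvPolynomial (Fin n) (∀ i, R i)
  obtain ⟨m, f, hf⟩ := Module.Finite.exists_fin' B M
  obtain ⟨s, hs⟩ := Module.projective_lifting_property f LinearMap.id hf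
  have hfs : ∀ x, f (s x) = x := fun x => LinearMap.congr_fun hs x
  let g : Fin m → M := fun a => f (Pi.single a 1)
  have hsum : ∀ v : Fin m → B, f v = ∑ a, v a • g a := by
    intro v
    conv_lhs => rw [pi_eq_sum_univ' v]
    simp only [map_sum, map_smul, g]
  let D := Finset.univ.sup fun p : Fin m × Fin m => (s (g p.2) p.1).totalDegree
  have key : ∀ i, ∃ v w : Fin m → MvPolynomial (Fin n) (R i),
      (∀ a b, v a * w b = map (Pi.evalRingHom R i) (s (g b) a)) ∧ ∑ a, w a * v a = 1 ∧
      (∀ a, (v a).totalDegree ≤ D) ∧ ∀ a, (w a).totalDegree ≤ D := by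
    intro i
    haveI := isGCDMonoid_mvPolynomial (R i) n
    letI : Algebra B (MvPolynomial (Fin n) (R i)) := (map (Pi.evalRingHom R i)).toAlgebra
    let e : (MvPolynomial (Fin n) (R i) ⊗[B] M) ≃ₗ[MvPolynomial (Fin n) (R i)] MvPolynomial (Fin n) (R i) :=
      (Module.Invertible.free_iff_linearEquiv.1 inferInstance).some
    let L : Fin m → (MvPolynomial (Fin n) (R i) ⊗[B] M →ₗ[MvPolynomial (Fin n) (R i)] MvPolynomial (Fin n) (R i)) :=
      fun a => LinearMap.liftBaseChange (MvPolynomial (Fin n) (R i))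
        ((Algebra.linearMap B (MvPolynomial (Fin n) (R i))) ∘ₗ LinearMap.proj a ∘ₗ s)
    have hL : ∀ a c x, L a (c ⊗ₜ x) = c * map (Pi.evalRingHom R i) (s x a) := fun a c x => by
      simp [L, RingHom.algebraMap_toAlgebra]
    let v : Fin m → MvPolynomial (Fin n) (R i) := fun a => L a (e.symm 1)
    let w : Fin m → MvPolynomial (Fin n) (R i) := fun a => e (1 ⊗ₜ g a)
    have hvw : ∀ a b, v a * w b = map (Pi.evalRingHom R i) (s (g b) a) := fun a b => by
      rw [mul_comm]
      show e (1 ⊗ₜ g b) • L a (e.symm 1) = _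
      rw [← map_smul, ← map_smul, smul_eq_mul, mul_one, e.symm_apply_apply, hL, one_mul]
    have hwv : ∑ a, w a * v a = 1 := by
      have h1 : ∀ x, ∑ a, L a x • ((1 : MvPolynomial (Fin n) (R i)) ⊗ₜ[B] g a) = x := by
        intro x
        induction x using TensorProduct.induction_on with
        | zero => simp
        | tmul c y =>
          have h2 : ∀ a, L a (c ⊗ₜ y) • ((1 : MvPolynomial (Fin n) (R i)) ⊗ₜ[B] g a) = c ⊗ₜ (s y a • g a) := by
            intro a
            rw [hL, TensorProduct.smul_tmul', TensorProduct.tmul_smul, TensorProduct.smul_tmul',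
              smul_eq_mul, mul_one, Algebra.smul_def, RingHom.algebraMap_toAlgebra, mul_comm]
          rw [Finset.sum_congr rfl fun a _ => h2 a, ← tmul_sum, ← hsum, hfs]
        | add x y hx hy => simp only [map_add, add_smul, Finset.sum_add_distrib, hx, hy]
      have h3 := congrArg e (h1 (e.symm 1))
      rw [map_sum, e.apply_symm_apply] at h3
      rw [← h3]
      exact Finset.sum_congr rfl fun a _ => by rw [map_smul, smul_eq_mul, mul_comm]
    have hdeg : ∀ a b, v a ≠ 0 → w b ≠ 0 → (v a).totalDegree + (w b).totalDegree ≤ D := by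
      intro a b ha hb
      rw [← totalDegree_mul_of_isDomain ha hb, hvw]
      exact le_trans (Finset.sup_mono (support_map_subset _ _))
        (Finset.le_sup (f := fun p : Fin m × Fin m => (s (g p.2) p.1).totalDegree) (Finset.mem_univ (a, b)))
    obtain ⟨a0, -, ha0⟩ := Finset.exists_ne_zero_of_sum_ne_zero (hwv.trans_ne one_ne_zero)
    refine ⟨v, w, hvw, hwv, fun a => ?_, fun b => ?_⟩
    · by_cases ha : v a = 0
      · simp [ha]
      · exact le_trans (Nat.le_add_right _ _) (hdeg a a0 ha (left_ne_zero_of_mul ha0))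
    · by_cases hb : w b = 0
      · simp [hb]
      · exact le_trans (Nat.le_add_left _ _) (hdeg a0 b (right_ne_zero_of_mul ha0) hb)
  choose v w hvw hwv hvD hwD using key
  let S : Finset (Fin n →₀ ℕ) := Finset.Iic (Finsupp.equivFunOnFinite.symm fun _ => D)
  have hS : ∀ {i : ι} (p : MvPolynomial (Fin n) (R i)), p.totalDegree ≤ D → ∀ d ∉ S, coeff d p = 0 := by
    intro i p hp d hd
    by_contra h
    refine hd (Finset.mem_Iic.2 fun j => ?_)
    refine le_trans ?_ (le_trans (le_totalDegree (mem_support_iff.2 h)) hp)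
    by_cases hj : d j = 0
    · simp [hj]
    · exact Finset.single_le_sum (fun k _ => Nat.zero_le (d k)) (Finsupp.mem_support_iff.2 hj)
  have hlift : ∀ c : ∀ i, MvPolynomial (Fin n) (R i), (∀ i, (c i).totalDegree ≤ D) →
      ∃ p : B, ∀ i, map (Pi.evalRingHom R i) p = c i := by
    intro c hc
    refine ⟨∑ d ∈ S, monomial d (fun i => coeff d (c i)), fun i => MvPolynomial.ext _ _ fun d => ?_⟩
    rw [coeff_map, coeff_sum]
    simp only [coeff_monomial, Finset.sum_ite_eq']
    by_cases hd : d ∈ S
    · rw [if_pos hd]; rfl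
    · rw [if_neg hd, hS _ (hc i) d hd]; rfl
  have hinj : ∀ x y : B, (∀ i, map (Pi.evalRingHom R i) x = map (Pi.evalRingHom R i) y) → x = y := by
    intro x y h
    refine MvPolynomial.ext _ _ fun d => funext fun i => ?_
    have := congrArg (coeff d) (h i)
    rwa [coeff_map, coeff_map] at this
  choose V hV using fun a => hlift (fun i => v i a) (fun i => hvD i a)
  choose W hW using fun a => hlift (fun i => w i a) (fun i => hwD i a)
  have hVW : ∀ a b, V a * W b = s (g b) a := fun a b => hinj _ _ fun i => by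
    rw [map_mul, hV, hW, hvw]
  have hWV : ∑ a, W a * V a = 1 := hinj _ _ fun i => by
    simp only [map_sum, map_mul, map_one, hV, hW, hwv]
  let φ : B →ₗ[B] M := LinearMap.toSpanSingleton B M (f V)
  let ψ : M →ₗ[B] B := ∑ a, W a • (LinearMap.proj a ∘ₗ s)
  have hψ : ∀ x, ψ x = ∑ a, W a * s x a := fun x => by simp [ψ]
  have hE : ∀ a, s (f V) a = V a := fun a => by
    rw [hsum, map_sum, Finset.sum_apply]
    simp only [map_smul, Pi.smul_apply, smul_eq_mul]
    calc ∑ b, V b * s (g b) a = ∑ b, V a * (W b * V b) :=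
          Finset.sum_congr rfl fun b _ => by rw [← hVW]; ring
      _ = V a := by rw [← Finset.mul_sum, hWV, mul_one]
  refine Module.Free.of_equiv (LinearEquiv.ofLinearMap φ ψ ?_ ?_)
  · refine LinearMap.ext fun x => ?_
    show ψ x • f V = x
    rw [← map_smul]
    conv_rhs => rw [← hfs x]
    refine congrArg f (funext fun a => ?_)
    rw [Pi.smul_apply, smul_eq_mul, hψ, Finset.sum_mul]
    conv_rhs => rw [← hfs x, hsum, map_sum, Finset.sum_apply]
    refine Finset.sum_congr rfl fun b _ => ?_
    rw [map_smul, Pi.smul_apply, smul_eq_mul, ← hVW]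
    ring
  · refine LinearMap.ext fun x => ?_
    show ψ (x • f V) = x
    rw [map_smul, hψ, smul_eq_mul]
    simp only [hE, hWV, mul_one]

theorem subsingleton_pic_mvPolynomial_pi {ι : Type u} (R : ι → Type u) [∀ i, CommRing (R i)]
    [∀ i, IsDomain (R i)] [∀ i, IsGCDMonoid (R i)] (n : ℕ) :
    Subsingleton (CommRing.Pic (MvPolynomial (Fin n) (∀ i, R i))) :=
  CommRing.Pic.subsingleton_iff.2 fun M _ _ _ => free_of_invertible R n M

end Groth.Agent.TateLoc6
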