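import Groth.Agent.GITLib.TorsorSch
import Mathlib.RingTheory.TensorProduct.Basic
import Mathlib.RingTheory.TensorProduct.Free
import Mathlib.AlgebraicGeometry.Limits
import Mathlib.RingTheory.Spectrum.Prime.Basic
import Mathlib.AlgebraicGeometry.Morphisms.Finite
import Mathlib.LinearAlgebra.Dual.Lemmas

/-!
# Torsors under infinitesimal group schemes over a field and separable extensions
-/

set_option autoImplicit false
set_option linter.style.haveILetI false

universe u

open CategoryTheory MonoidalCategory CartesianMonoidalCategory MonObj AlgebraicGeometry Opposite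

namespace Groth.Agent.TateLoc6

variable {k : Type u} [Field k]

theorem ringHom_eq_of_section {C K : Type u} [CommRing C] [Field K] [Algebra k C] [Algebra k K]
    [Subsingleton (PrimeSpectrum C)] (ε₀ : C →ₐ[k] k) (g : C →ₐ[k] K) (c : C) :
    g c = algebraMap k K (ε₀ c) := by
  haveI : (RingHom.ker (g : C →+* K)).IsPrime := RingHom.ker_isPrime _
  haveI : (RingHom.ker (ε₀ : C →+* k)).IsPrime := RingHom.ker_isPrime _
  have h : RingHom.ker (g : C →+* K) = RingHom.ker (ε₀ : C →+* k) := congrArg PrimeSpectrum.asIdeal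
    (Subsingleton.elim (⟨_, ‹(RingHom.ker (g : C →+* K)).IsPrime›⟩ : PrimeSpectrum C) ⟨_, ‹(RingHom.ker (ε₀ : C →+* k)).IsPrime›⟩)
  have h2 : c - algebraMap k C (ε₀ c) ∈ RingHom.ker (g : C →+* K) := by
    rw [h, RingHom.mem_ker]
    simp
  have h3 : g (c - algebraMap k C (ε₀ c)) = 0 := RingHom.mem_ker.1 h2
  rwa [map_sub, AlgHom.commutes, sub_eq_zero] at h3

/-- A finite one-point scheme over `k` with a rational point has only one point over every field. -/
theorem eq_of_infinitesimal (I : Over (Spec (CommRingCat.of k))) [IsFinite I.hom] [Subsingleton ↥(I.left)]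
    (e : 𝟙_ (Over (Spec (CommRingCat.of k))) ⟶ I) (K : Type u) [Field K]
    (f : Spec (CommRingCat.of K) ⟶ Spec (CommRingCat.of k))
    (g : Over.mk f ⟶ I) : g = toUnit _ ≫ e := by
  haveI : IsAffine I.left := inferInstance
  haveI : Subsingleton (PrimeSpectrum Γ(I.left, ⊤)) :=
    I.left.isoSpec.inv.homeomorph.injective.subsingleton
  obtain ⟨φ, hφ⟩ := Spec.map_surjective f
  obtain ⟨γ, hγ⟩ := Spec.map_surjective (g.left ≫ I.left.isoSpec.hom)
  obtain ⟨ε, hε⟩ := Spec.map_surjective
    ((e.left : Spec (CommRingCat.of k) ⟶ I.left) ≫ I.left.isoSpec.hom)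
  obtain ⟨σ, hσ⟩ := Spec.map_surjective (I.left.isoSpec.inv ≫ I.hom)
  letI : Algebra k Γ(I.left, ⊤) := σ.hom.toAlgebra
  letI : Algebra k K := φ.hom.toAlgebra
  have hγσ : σ ≫ γ = φ := by
    apply Spec.map_injective
    rw [Spec.map_comp, hγ, hσ, hφ, Category.assoc, Iso.hom_inv_id_assoc]
    exact Over.w g
  have hεσ : σ ≫ ε = 𝟙 _ := by
    apply Spec.map_injective
    rw [Spec.map_comp, hε, hσ, Spec.map_id, Category.assoc, Iso.hom_inv_id_assoc]
    exact Over.w e
  let gA : Γ(I.left, ⊤) →ₐ[k] K := AlgHom.mk γ.hom (fun r => RingHom.congr_fun (congrArg CommRingCat.Hom.hom hγσ) r)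
  let eA : Γ(I.left, ⊤) →ₐ[k] k := AlgHom.mk ε.hom (fun r => RingHom.congr_fun (congrArg CommRingCat.Hom.hom hεσ) r)
  have hge : γ = ε ≫ φ := by
    ext c
    exact ringHom_eq_of_section eA gA c
  ext1
  rw [← cancel_mono I.left.isoSpec.hom, ← hγ, hge, Spec.map_comp, hφ, hε, Over.comp_left, Category.assoc]
  congr 1

variable {I E : Over (Spec (CommRingCat.of k))} [GrpObj I] [IsFinite I.hom] [Subsingleton ↥(I.left)]
  {a : AlgGrp.Action I E}

theorem eq_of_pseudoTorsor (h : NonAbH1.IsPseudoTorsorSch a) (K : Type u) [Field K]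
    (f : Spec (CommRingCat.of K) ⟶ Spec (CommRingCat.of k)) (x y : Over.mk f ⟶ E) : x = y := by
  obtain ⟨g, hg, -⟩ := GITLib.existsUnique_diff h x y
  rw [← hg, eq_of_infinitesimal I η[I] K f g]
  exact (a.lift_one_act x).symm

theorem subsingleton_of_pseudoTorsor (h : NonAbH1.IsPseudoTorsorSch a) (L : Type u) [Field L] [Algebra k L]
    (hL : NonAbH1.HasSectionOver E (Spec.map (CommRingCat.ofHom (algebraMap k L)))) :
    Subsingleton ↥(E.left) := by
  obtain ⟨s, hs⟩ := hL
  suffices h1 : ∀ e : ↥(E.left), ∀ p : ↥(Spec (CommRingCat.of L)), e = s p by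
    haveI : Nonempty ↥(Spec (CommRingCat.of L)) := inferInstanceAs (Nonempty (PrimeSpectrum L))
    exact ⟨fun e e' => (h1 e (Classical.arbitrary _)).trans (h1 e' _).symm⟩
  intro e p
  obtain ⟨α, hα⟩ := Spec.map_surjective (E.left.fromSpecResidueField e ≫ E.hom)
  letI : Algebra k (E.left.residueField e) := α.hom.toAlgebra
  haveI : Nontrivial (TensorProduct k L (E.left.residueField e)) :=
    (Algebra.TensorProduct.includeLeft_injective (S := k) (A := L)
      (B := E.left.residueField e) (algebraMap k (E.left.residueField e)).injective).nontrivial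
  obtain ⟨𝔪, h𝔪⟩ := Ideal.exists_maximal (TensorProduct k L (E.left.residueField e))
  letI := Ideal.Quotient.field 𝔪
  let K := TensorProduct k L (E.left.residueField e) ⧸ 𝔪
  let l : CommRingCat.of L ⟶ CommRingCat.of K :=
    CommRingCat.ofHom ((Ideal.Quotient.mk 𝔪).comp Algebra.TensorProduct.includeLeftRingHom)
  let r : E.left.residueField e ⟶ CommRingCat.of K :=
    CommRingCat.ofHom ((Ideal.Quotient.mk 𝔪).comp
      (Algebra.TensorProduct.includeRight : E.left.residueField e →ₐ[k] _).toRingHom)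
  let m : CommRingCat.of k ⟶ CommRingCat.of L := CommRingCat.ofHom (algebraMap k L)
  have hlr : m ≫ l = α ≫ r := by
    ext c
    show Ideal.Quotient.mk 𝔪 (algebraMap k L c ⊗ₜ 1) = Ideal.Quotient.mk 𝔪 (1 ⊗ₜ algebraMap k _ c)
    rw [Algebra.algebraMap_eq_smul_one, Algebra.algebraMap_eq_smul_one, TensorProduct.smul_tmul]
  let x : Over.mk (Spec.map l ≫ Spec.map m) ⟶ E := Over.homMk (Spec.map l ≫ s) (by simp [hs, m])
  let y : Over.mk (Spec.map l ≫ Spec.map m) ⟶ E := Over.homMk (Spec.map r ≫ E.left.fromSpecResidueField e)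
    (by
      show _ = Spec.map l ≫ Spec.map m
      rw [Category.assoc, ← hα, ← Spec.map_comp, ← Spec.map_comp, hlr])
  have hxy : Spec.map l ≫ s = Spec.map r ≫ E.left.fromSpecResidueField e :=
    congrArg CommaMorphism.left (eq_of_pseudoTorsor h K _ x y)
  have q : ↥(Spec (CommRingCat.of K)) := (Classical.arbitrary (PrimeSpectrum K))
  have h2 := congrArg (fun φ => φ q) hxy
  simp only [Scheme.Hom.comp_apply, Scheme.fromSpecResidueField_apply] at h2
  rw [show p = Spec.map l q from Subsingleton.elim (α := PrimeSpectrum L) _ _]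
  exact h2.symm

theorem hasSection_of_separable (L : Type u) [Field L] [Algebra k L] [IsReduced (TensorProduct k L L)]
    (h : NonAbH1.IsPseudoTorsorSch a)
    (hL : NonAbH1.HasSectionOver E (Spec.map (CommRingCat.ofHom (algebraMap k L)))) :
    NonAbH1.HasSectionOver E (𝟙 (Spec (CommRingCat.of k))) := by
  haveI := subsingleton_of_pseudoTorsor h L hL
  haveI : IsAffine E.left := inferInstance
  obtain ⟨s, hs⟩ := hL
  obtain ⟨φ, hφ⟩ := Spec.map_surjective (s ≫ E.left.isoSpec.hom)
  obtain ⟨σ, hσ⟩ := Spec.map_surjective (E.left.isoSpec.inv ≫ E.hom)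
  have hφσ : σ ≫ φ = CommRingCat.ofHom (algebraMap k L) := by
    apply Spec.map_injective
    rw [Spec.map_comp, hφ, hσ, Category.assoc, Iso.hom_inv_id_assoc, hs]
  have key : ∀ c, (φ.hom c : L) ⊗ₜ[k] (1 : L) = (1 : L) ⊗ₜ[k] (φ.hom c : L) := by
    intro c
    rw [← sub_eq_zero]
    refine IsReduced.eq_zero _ ?_
    rw [← mem_nilradical, nilradical_eq_sInf]
    refine Ideal.mem_sInf.2 fun {P} hP => ?_
    haveI : P.IsPrime := hP
    let K := P.ResidueField
    let π : TensorProduct k L L →+* K := algebraMap _ K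
    let l₁ : CommRingCat.of L ⟶ CommRingCat.of K :=
      CommRingCat.ofHom (π.comp Algebra.TensorProduct.includeLeftRingHom)
    let l₂ : CommRingCat.of L ⟶ CommRingCat.of K :=
      CommRingCat.ofHom (π.comp (Algebra.TensorProduct.includeRight : L →ₐ[k] _).toRingHom)
    let m : CommRingCat.of k ⟶ CommRingCat.of L := CommRingCat.ofHom (algebraMap k L)
    have hll : m ≫ l₁ = m ≫ l₂ := by
      ext d
      show π (algebraMap k L d ⊗ₜ 1) = π (1 ⊗ₜ algebraMap k L d)
      refine congrArg π ?_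
      rw [Algebra.algebraMap_eq_smul_one, TensorProduct.smul_tmul]
    let x : Over.mk (Spec.map l₁ ≫ Spec.map m) ⟶ E := Over.homMk (Spec.map l₁ ≫ s) (by simp [hs, m])
    let y : Over.mk (Spec.map l₁ ≫ Spec.map m) ⟶ E := Over.homMk (Spec.map l₂ ≫ s) (by
      show _ = Spec.map l₁ ≫ Spec.map m
      rw [Category.assoc, hs, ← Spec.map_comp, ← Spec.map_comp, hll])
    have hxy : Spec.map l₁ ≫ s = Spec.map l₂ ≫ s :=
      congrArg CommaMorphism.left (eq_of_pseudoTorsor h K _ x y)
    have h3 : φ ≫ l₁ = φ ≫ l₂ := by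
      apply Spec.map_injective
      rw [Spec.map_comp, Spec.map_comp, hφ, ← Category.assoc, ← Category.assoc, hxy]
    have h4 : π (φ.hom c ⊗ₜ 1) = π (1 ⊗ₜ φ.hom c) :=
      RingHom.congr_fun (congrArg CommRingCat.Hom.hom h3) c
    rw [← sub_eq_zero, ← map_sub] at h4
    exact (Ideal.algebraMap_residueField_eq_zero).1 h4
  obtain ⟨ℓ, hℓ⟩ : ∃ ℓ : L →ₗ[k] k, ℓ 1 = 1 := by
    obtain ⟨ℓ, hℓ⟩ := LinearMap.exists_leftInverse_of_injective (Algebra.linearMap k L)
      (LinearMap.ker_eq_bot.2 (algebraMap k L).injective)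
    exact ⟨ℓ, by simpa using LinearMap.congr_fun hℓ 1⟩
  have hmem : ∀ c, φ.hom c = algebraMap k L (ℓ (φ.hom c)) := by
    intro c
    have := congrArg (fun z => TensorProduct.rid k L (LinearMap.lTensor L ℓ z)) (key c)
    simp only [LinearMap.lTensor_tmul, TensorProduct.rid_tmul, hℓ, one_smul] at this
    rw [Algebra.algebraMap_eq_smul_one]
    exact this
  have inj := (algebraMap k L).injective
  let ψ : Γ(E.left, ⊤) →+* k :=
    { toFun := fun c => ℓ (φ.hom c)
      map_one' := inj (by rw [← hmem, map_one, map_one])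
      map_mul' := fun c d => inj (by rw [← hmem, map_mul, map_mul, ← hmem, ← hmem])
      map_zero' := by simp
      map_add' := fun c d => by simp }
  refine ⟨Spec.map (CommRingCat.ofHom ψ) ≫ E.left.isoSpec.inv, ?_⟩
  rw [Category.assoc, ← hσ, ← Spec.map_comp, ← Spec.map_id]
  congr 1
  ext d
  refine inj ?_
  show algebraMap k L (ℓ (φ.hom (σ.hom d))) = algebraMap k L d
  rw [← hmem]
  exact RingHom.congr_fun (congrArg CommRingCat.Hom.hom hφσ) d

end Groth.Agent.TateLoc6
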